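import Mathlib
import Cfsg.Agent.H386.Rg.D2

/-!
# Geometry for the case F-D+2, q odd (helper308; S3691)

* `exists_aniso` : a hyperbolic pair and an orthogonal nonsingular vector span an anisotropic plane
* `eq_one_of_fix` : `a ∈ K` trivial on a t.s. subspace `W`, on a nonsingular vector of `W^⊥` and on a vector outside `W^⊥` is trivial
* `sub_mem_of_odd` : an isometry of odd order fixing a nonsingular vector of a hyperbolic plane acts trivially on the plane modulo `W`
* `dvd_finrank` : the dimension of a `y`-invariant subspace without fixed vectors is a multiple of `m'`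
-/

set_option autoImplicit false

open QuadraticMap Module

namespace Cfsg.Agent.H308.D2

open Cfsg.Agent.H386.Rg

universe u v

section gen

variable {F : Type u} {V : Type v} [Field F] [AddCommGroup V] [Module F V] (Q : QuadraticForm F V)

theorem polar_eq (x y : V) : Q (x + y) = Q x + Q y + polar Q x y := by
  rw [polar]; ring

theorem Q_comb (x y : V) (a b : F) : Q (a • x + b • y) = a * a * Q x + b * b * Q y + a * b * polar Q x y := by
  rw [polar_eq, QuadraticMap.map_smul, QuadraticMap.map_smul, QuadraticMap.polar_smul_left, QuadraticMap.polar_smul_right]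
  simp only [smul_eq_mul]
  ring

theorem polar_self' (x : V) : polar Q x x = 2 * Q x := by
  rw [QuadraticMap.polar_self]; simp [two_mul]

theorem exists_aniso [Finite F] (h2 : ringChar F ≠ 2) {e g x : V} (he : Q e = 0) (hg : Q g = 0) (heg : polar Q e g = 1)
    (hx : Q x ≠ 0) (hxe : polar Q x e = 0) (hxg : polar Q x g = 0) : ∃ c : F, Aniso Q x (e + c • g) := by
  have := Fintype.ofFinite F
  obtain ⟨ν, hν⟩ := FiniteField.exists_nonsquare h2
  refine ⟨-Q x * ν, fun a b hab => ?_⟩
  rw [Q_comb, QuadraticMap.polar_add_right, QuadraticMap.polar_smul_right, hxe, hxg, smul_zero, add_zero, mul_zero,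
    add_zero] at hab
  have h1 : Q (e + (-Q x * ν) • g) = -Q x * ν := by
    have := Q_comb Q e g 1 (-Q x * ν)
    rw [one_smul] at this
    rw [this, he, hg, heg]; ring
  rw [h1] at hab
  have h3 : Q x * (a * a - b * b * ν) = 0 := by linear_combination hab
  have h4 : a * a = b * b * ν := by
    rcases mul_eq_zero.1 h3 with h5 | h5
    · exact absurd h5 hx
    · exact sub_eq_zero.1 h5
  have hb : b = 0 := by
    by_contra hb
    apply hν
    refine ⟨a / b, ?_⟩
    field_simp
    linear_combination -h4
  subst hb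
  refine ⟨?_, rfl⟩
  have : a * a = 0 := by rw [h4]; ring
  exact mul_self_eq_zero.1 this

/-- the generic form of T3 -/
theorem sub_mem_of_odd (h2 : (2 : F) ≠ 0) (W : Submodule F V) {e g : V} (he : Q e = 0) (hg : Q g = 0) (heg : polar Q e g = 1)
    (hW : ∀ w ∈ W, Q w = 0) (hWe : ∀ w ∈ W, polar Q w e = 0) (hWg : ∀ w ∈ W, polar Q w g = 0) {α β : F} (hα : α ≠ 0)
    (hβ : β ≠ 0) (k : V ≃ₗ[F] V) (hk : ∀ x, Q (k x) = Q x) (hkW : ∀ w ∈ W, k w ∈ W)
    (hke : ∃ w ∈ W, ∃ x y : F, k e = w + x • e + y • g) (hkg : ∃ w ∈ W, ∃ x y : F, k g = w + x • e + y • g)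
    (hv : k (α • e + β • g) = α • e + β • g) (hodd : ∃ j : ℕ, k ^ (2 * j + 1) = 1) :
    k e - e ∈ W ∧ k g - g ∈ W := by
  set v := α • e + β • g with hvd
  set c := α • e - β • g with hcd
  have hkp : ∀ x y, polar Q (k x) (k y) = polar Q x y := fun x y => by
    rw [polar, polar, ← map_add, hk, hk, hk]
  have hge : polar Q g e = 1 := by rw [QuadraticMap.polar_comm, heg]
  have hee : polar Q e e = 0 := by rw [polar_self', he, mul_zero]
  have hgg : polar Q g g = 0 := by rw [polar_self', hg, mul_zero]
  obtain ⟨w1, hw1, x1, y1, h1⟩ := hke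
  obtain ⟨w2, hw2, x2, y2, h2'⟩ := hkg
  have hkc : ∃ w ∈ W, ∃ x y : F, k c = w + x • e + y • g := by
    refine ⟨α • w1 - β • w2, W.sub_mem (W.smul_mem _ hw1) (W.smul_mem _ hw2), α * x1 - β * x2, α * y1 - β * y2, ?_⟩
    rw [hcd, map_sub, map_smul, map_smul, h1, h2']
    module
  obtain ⟨w, hw, x, y, hc⟩ := hkc
  have hwv : polar Q w v = 0 := by
    rw [hvd, QuadraticMap.polar_add_right, QuadraticMap.polar_smul_right, QuadraticMap.polar_smul_right, hWe w hw, hWg w hw]
    simp
  have hcv : polar Q c v = 0 := by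
    rw [hcd, hvd]
    simp only [sub_eq_add_neg, QuadraticMap.polar_add_right, QuadraticMap.polar_add_left, QuadraticMap.polar_smul_right,
      QuadraticMap.polar_smul_left, QuadraticMap.polar_neg_left, hee, hgg, heg, hge, smul_eq_mul]
    ring
  have h3 : x * β + y * α = 0 := by
    have h4 := hkp c v
    rw [hv, hcv, hc, QuadraticMap.polar_add_left, QuadraticMap.polar_add_left, hwv, hvd] at h4
    simp only [QuadraticMap.polar_add_right, QuadraticMap.polar_smul_right,
      QuadraticMap.polar_smul_left, hee, hgg, heg, hge, smul_eq_mul] at h4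
    linear_combination h4
  have h4 : x * y = - (α * β) := by
    have h5 : Q (k c) = Q c := hk c
    have h6 : Q c = - (α * β) := by
      have := Q_comb Q e g α (-β)
      rw [he, hg, heg] at this
      rw [hcd, sub_eq_add_neg, ← neg_smul, this]; ring
    have h7 : Q (k c) = x * y := by
      rw [hc, add_assoc, polar_eq, hW w hw, QuadraticMap.polar_add_right, QuadraticMap.polar_smul_right,
        QuadraticMap.polar_smul_right, hWe w hw, hWg w hw, Q_comb, he, hg, heg]
      simp
    rw [← h7, h5, h6]
  set t := x / α with ht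
  have hx : x = t * α := by rw [ht]; field_simp
  have hy : y = -(t * β) := by
    rw [hx] at h3
    have : α * (y + t * β) = 0 := by linear_combination h3
    rcases mul_eq_zero.1 this with h5 | h5
    · exact absurd h5 hα
    · linear_combination h5
  have htt : t * t = 1 := by
    rw [hx, hy] at h4
    have : α * β * (t * t - 1) = 0 := by linear_combination -h4
    rcases mul_eq_zero.1 this with h5 | h5
    · rcases mul_eq_zero.1 h5 with h6 | h6
      · exact absurd h6 hα
      · exact absurd h6 hβ
    · linear_combination h5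
  have hkc : k c = w + t • c := by
    rw [hc, hx, hy, hcd]
    module
  clear_value c v
  -- k² c - c ∈ W
  have hk2 : k (k c) - c ∈ W := by
    have h5 : k (k c) - c = k w + t • w := by
      rw [hkc, map_add, map_smul, hkc, smul_add, smul_smul, htt, one_smul]
      abel
    rw [h5]
    exact W.add_mem (hkW w hw) (W.smul_mem _ hw)
  have hpw : ∀ j : ℕ, ∀ w ∈ W, (k ^ j) w ∈ W := by
    intro j
    induction j with
    | zero => intro w hw; simpa using hw
    | succ j ih => intro w hw; rw [pow_succ]; exact ih _ (hkW w hw)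
  have hk2j : ∀ j : ℕ, (k ^ (2 * j)) c - c ∈ W := by
    intro j
    induction j with
    | zero => simp
    | succ j ih =>
      have h5 : (k ^ (2 * (j + 1))) c - c = (k ^ (2 * j)) (k (k c) - c) + ((k ^ (2 * j)) c - c) := by
        have h6 : k ^ (2 * (j + 1)) = k ^ (2 * j) * (k * k) := by
          rw [show 2 * (j + 1) = 2 * j + 1 + 1 by ring, pow_succ, pow_succ, mul_assoc]
        have h7 : (k ^ (2 * (j + 1))) c = (k ^ (2 * j)) (k (k c)) := by rw [h6]; rfl
        rw [h7, map_sub]
        abel
      rw [h5]
      exact W.add_mem (hpw _ _ hk2) ih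
  obtain ⟨j, hj⟩ := hodd
  have hkcW : k c - c ∈ W := by
    have h5 : k ((k ^ (2 * j)) c) = c := by
      have := congrArg (fun l : V ≃ₗ[F] V => l c) hj
      rw [pow_succ'] at this
      exact this
    have h6 : k c - c = - (k ((k ^ (2 * j)) c - c)) := by
      rw [map_sub, h5]
      abel
    rw [h6]
    exact W.neg_mem (hkW _ (hk2j j))
  constructor
  · have h5 : e = (2 * α)⁻¹ • (v + c) := by
      rw [hvd, hcd]
      have : α • e + β • g + (α • e - β • g) = (2 * α) • e := by module
      rw [this, smul_smul, inv_mul_cancel₀ (mul_ne_zero h2 hα), one_smul]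
    have h6 : k e - e = (2 * α)⁻¹ • (k c - c) := by
      conv_lhs => rw [h5]
      rw [map_smul, map_add, hv, ← smul_sub]
      congr 1
      abel
    rw [h6]
    exact W.smul_mem _ hkcW
  · have h5 : g = (2 * β)⁻¹ • (v - c) := by
      rw [hvd, hcd]
      have : α • e + β • g - (α • e - β • g) = (2 * β) • g := by module
      rw [this, smul_smul, inv_mul_cancel₀ (mul_ne_zero h2 hβ), one_smul]
    have h6 : k g - g = -((2 * β)⁻¹ • (k c - c)) := by
      conv_lhs => rw [h5]
      rw [map_smul, map_sub, hv, ← smul_sub, ← smul_neg]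
      congr 1
      abel
    rw [h6]
    exact W.neg_mem (W.smul_mem _ hkcW)

end gen

/-- a `y`-invariant subspace without fixed vectors has dimension divisible by `m'` -/
theorem dvd_finrank {F : Type u} {V : Type v} [Field F] [Finite F] [AddCommGroup V] [Module F V] [FiniteDimensional F V]
    {p f l r : ℕ} (hf : 1 ≤ f) (hF : Nat.card F = p ^ f) (hr : r.Prime)
    (hord : orderOf (p : ZMod r) = f * l) (S : Submodule F V) {y : V ≃ₗ[F] V} (hyr : y ^ r = 1)
    (hyS : ∀ w ∈ S, y w ∈ S) (hfix : ∀ w ∈ S, y w = w → w = 0) : l ∣ finrank F S := by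
  classical
  have := Fact.mk hr
  have : Finite V := Module.finite_of_finite F
  have : Fintype S := Fintype.ofFinite S
  let g : Function.End S := fun b => ⟨y b, hyS b b.2⟩
  have hgi : ∀ (i : ℕ) (b : S), (((g ^ i) b : S) : V) = (y ^ i) b := by
    intro i
    induction i with
    | zero => intro b; rfl
    | succ i ih =>
      intro b
      rw [pow_succ', pow_succ']
      change y ((g ^ i) b : S) = y ((y ^ i) b)
      rw [ih]
  have hg : g ^ r ^ 1 = 1 := by
    rw [pow_one]
    funext b
    apply Subtype.ext
    rw [hgi, hyr]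
    rfl
  have h1 := Equiv.Perm.card_fixedPoints_modEq hg
  have h2 : Fintype.card g.fixedPoints = 1 := by
    rw [Fintype.card_eq_one_iff]
    refine ⟨⟨0, Subtype.ext (map_zero y)⟩, ?_⟩
    rintro ⟨b, hb⟩
    apply Subtype.ext
    apply Subtype.ext
    exact hfix b b.2 (congrArg Subtype.val hb)
  have h3 : Fintype.card S = p ^ (f * finrank F S) := by
    rw [← Nat.card_eq_fintype_card, Module.natCard_eq_pow_finrank (K := F), hF, pow_mul]
  rw [h2, h3, ← ZMod.natCast_eq_natCast_iff, Nat.cast_pow, Nat.cast_one] at h1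
  have h4 : orderOf (p : ZMod r) ∣ f * finrank F S := orderOf_dvd_of_pow_eq_one h1
  rw [hord] at h4
  exact (Nat.mul_dvd_mul_iff_left (by omega)).1 h4

end Cfsg.Agent.H308.D2
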