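import Mathlib
import Cfsg.Agent.H308.D2.Geo

/-!
# The radical of a `p`-subgroup of a vector stabiliser (helper308; S3691, F-D+2)
-/

set_option autoImplicit false
set_option linter.unusedSectionVars false

open QuadraticMap Module

namespace Cfsg.Agent.H308.D2

open Cfsg.Agent.H386.Rg

universe u v

section perp

variable {F : Type u} {V : Type v} [Field F] [AddCommGroup V] [Module F V] (Q : QuadraticForm F V)

/-- the orthogonal complement -/
def perp (W : Submodule F V) : Submodule F V where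
  carrier := {x | ∀ w ∈ W, polar Q x w = 0}
  zero_mem' := fun w _ => by rw [polar_zero_left]
  add_mem' := fun {a b} ha hb w hw => by rw [QuadraticMap.polar_add_left, ha w hw, hb w hw, add_zero]
  smul_mem' := fun c a ha w hw => by rw [QuadraticMap.polar_smul_left, ha w hw, smul_zero]

variable {Q}

theorem mem_perp {W : Submodule F V} {x : V} : x ∈ perp Q W ↔ ∀ w ∈ W, polar Q x w = 0 := Iff.rfl

theorem nondeg (hnd : ∀ v : V, (∀ w, polar Q v w = 0) → v = 0) : (polarBilin Q).Nondegenerate := by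
  constructor
  · intro x hx
    exact hnd x hx
  · intro x hx
    refine hnd x fun w => ?_
    rw [polar_comm]
    exact hx w

theorem perp_eq (W : Submodule F V) : perp Q W = LinearMap.BilinForm.orthogonal (polarBilin Q) W := by
  ext x
  rw [mem_perp, LinearMap.BilinForm.mem_orthogonal_iff]
  refine forall₂_congr fun w _ => ?_
  rw [polar_comm]
  rfl

theorem finrank_perp [FiniteDimensional F V] (hnd : ∀ v : V, (∀ w, polar Q v w = 0) → v = 0) (W : Submodule F V) :
    finrank F (perp Q W) = finrank F V - finrank F W := by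
  rw [perp_eq, LinearMap.BilinForm.finrank_orthogonal (nondeg hnd)]

/-- fixed vectors of a `p`-group -/
theorem exists_fixed {p : ℕ} [Fact p.Prime] [Finite V] {G : Type*} [Group G] [Finite G] [DistribMulAction G V] (hG : IsPGroup p G)
    (S : AddSubgroup V) (hSp : ∃ j, Nat.card S = p ^ j) (hS : ∀ (g : G), ∀ s ∈ S, g • s ∈ S)
    (hfix : ∀ s ∈ S, (∀ g : G, g • s = s) → s = 0) : S = ⊥ := by
  classical
  let _ : MulAction G S :=
    { smul := fun g s => ⟨g • (s : V), hS g s s.2⟩
      one_smul := fun s => Subtype.ext (one_smul G (s : V))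
      mul_smul := fun a b s => Subtype.ext (mul_smul a b (s : V)) }
  have h1 := hG.card_modEq_card_fixedPoints S
  have h2 : Nat.card (MulAction.fixedPoints G S) = 1 := by
    rw [Nat.card_eq_one_iff_unique]
    refine ⟨⟨?_⟩, ⟨⟨0, fun g => Subtype.ext (smul_zero g)⟩⟩⟩
    have h3 : ∀ a : MulAction.fixedPoints G S, a = ⟨0, fun g => Subtype.ext (smul_zero g)⟩ := by
      rintro ⟨a, ha⟩
      apply Subtype.ext
      apply Subtype.ext
      exact hfix a a.2 fun g => congrArg Subtype.val (ha g)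
    intro a b
    rw [h3 a, h3 b]
  obtain ⟨j, hj⟩ := hSp
  rw [h2, hj] at h1
  have h3 : j = 0 := by
    by_contra h0
    have h4 : p ^ j ≡ 0 [MOD p] := (Nat.modEq_zero_iff_dvd).2 (dvd_pow_self p h0)
    have h5 := (Nat.modEq_zero_iff_dvd).1 (h1.symm.trans h4)
    exact (Fact.out : p.Prime).one_lt.ne' (Nat.dvd_one.1 h5)
  rw [h3, pow_zero] at hj
  exact AddSubgroup.card_eq_one.1 hj

end perp

section frame

variable {F : Type u} {V : Type v} [Field F] [Finite F] [AddCommGroup V] [Module F V] [FiniteDimensional F V]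
  {Q : QuadraticForm F V} {p f m : ℕ} {K : Subgroup (V ≃ₗ[F] V)}

theorem charP (h : D2 Q p f m K) : CharP F p := by
  have := Fintype.ofFinite F
  obtain ⟨c, hc⟩ := CharP.exists F
  obtain ⟨n, hn, h2⟩ := FiniteField.card F c
  have h3 := h.hF
  rw [Nat.card_eq_fintype_card, h2] at h3
  have h4 : c = p := by
    have h5 : c ∣ p ^ f := by rw [← h3]; exact dvd_pow_self c n.pos.ne'
    exact (Nat.prime_dvd_prime_iff_eq hn h.hp).1 (hn.dvd_of_dvd_pow h5)
  rw [← h4]; exact hc

theorem two_ne (h : D2 Q p f m K) (hp2 : p ≠ 2) : (2 : F) ≠ 0 := by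
  have := charP h
  have h1 : ((2 : ℕ) : F) ≠ 0 := by
    rw [Ne, CharP.cast_eq_zero_iff F p]
    intro h2
    exact hp2 ((Nat.prime_dvd_prime_iff_eq h.hp Nat.prime_two).1 h2)
  exact_mod_cast h1

theorem rc_ne (h : D2 Q p f m K) (hp2 : p ≠ 2) : ringChar F ≠ 2 := by
  have := charP h
  rw [ringChar.eq F p]
  exact hp2

theorem polar_map {k : V ≃ₗ[F] V} (hk : ∀ x, Q (k x) = Q x) (x y : V) : polar Q (k x) (k y) = polar Q x y := by
  rw [polar, polar, ← map_add, hk, hk, hk]

/-- T2 -/
theorem eq_one_of_fix (h : D2 Q p f m K) (hp2 : p ≠ 2) {W : Submodule F V} (hW : ∀ w ∈ W, Q w = 0) {v : V} (hv : Q v ≠ 0)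
    (hvW : ∀ w ∈ W, polar Q v w = 0) {a : V ≃ₗ[F] V} (ha : a ∈ K) (hav : a v = v) (haW : ∀ w ∈ W, a w = w) {z : V}
    (haz : a z = z) {w0 : V} (hw0 : w0 ∈ W) (hz : polar Q z w0 ≠ 0) : a = 1 := by
  by_contra hne
  set w1 := (polar Q z w0)⁻¹ • w0 with hw1
  have hw1W : w1 ∈ W := W.smul_mem _ hw0
  have hzw : polar Q z w1 = 1 := by
    rw [hw1, QuadraticMap.polar_smul_right, smul_eq_mul, inv_mul_cancel₀ hz]
  have hw11 : polar Q w1 w1 = 0 := by rw [polar_self', hW w1 hw1W, mul_zero]
  set z1 := z - Q z • w1 with hz1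
  have hz1Q : Q z1 = 0 := by
    have := Q_comb Q z w1 1 (-Q z)
    rw [one_smul, neg_smul, ← sub_eq_add_neg] at this
    rw [hz1, this, hzw, hW w1 hw1W]; ring
  have hzw1 : polar Q z1 w1 = 1 := by
    rw [hz1, sub_eq_add_neg, ← neg_smul, QuadraticMap.polar_add_left, QuadraticMap.polar_smul_left, hzw, hw11, smul_zero, add_zero]
  set x := v - polar Q v z1 • w1 with hx
  have hxQ : Q x ≠ 0 := by
    have := Q_comb Q v w1 1 (-polar Q v z1)
    rw [one_smul, neg_smul, ← sub_eq_add_neg, hvW w1 hw1W, hW w1 hw1W] at this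
    rw [hx, this]
    simpa using hv
  have hxz : polar Q x z1 = 0 := by
    rw [hx, sub_eq_add_neg, ← neg_smul, QuadraticMap.polar_add_left, QuadraticMap.polar_smul_left, polar_comm Q w1 z1, hzw1]
    simp
  have hxw : polar Q x w1 = 0 := by
    rw [hx, sub_eq_add_neg, ← neg_smul, QuadraticMap.polar_add_left, QuadraticMap.polar_smul_left, hw11, hvW w1 hw1W]
    simp
  have haw1 : a w1 = w1 := haW w1 hw1W
  have haz1 : a z1 = z1 := by rw [hz1, map_sub, map_smul, haz, haw1]
  have hax : a x = x := by rw [hx, map_sub, map_smul, hav, haw1]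
  obtain ⟨c, hc⟩ := exists_aniso Q (rc_ne h hp2) hz1Q (hW w1 hw1W) hzw1 hxQ hxz hxw
  exact h.fix a ha hne x (z1 + c • w1) hc hax (by rw [map_add, map_smul, haz1, haw1])

/-- the data of `y` : `y` of prime order `r_(m-1)` with fixed space `⟨e, g⟩` -/
structure YD (Q : QuadraticForm F V) (p f m : ℕ) (K : Subgroup (V ≃ₗ[F] V)) (r : ℕ) (y : V ≃ₗ[F] V) (e g : V) : Prop where
  hr : r.Prime
  hord : orderOf (p : ZMod r) = f * (m - 1)
  hyK : y ∈ K
  hyr : orderOf y = r
  he : Q e = 0
  hg : Q g = 0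
  heg : polar Q e g = 1
  fix : ∀ v : V, y v = v ↔ v ∈ Submodule.span F {e, g}

theorem YD.hye {r : ℕ} {y : V ≃ₗ[F] V} {e g : V} (Y : YD Q p f m K r y e g) : y e = e :=
  (Y.fix e).2 (Submodule.subset_span (by simp))

theorem YD.hyg {r : ℕ} {y : V ≃ₗ[F] V} {e g : V} (Y : YD Q p f m K r y e g) : y g = g :=
  (Y.fix g).2 (Submodule.subset_span (by simp))

theorem YD.hv {r : ℕ} {y : V ≃ₗ[F] V} {e g : V} (Y : YD Q p f m K r y e g) : Q (e + g) = 1 := by
  rw [polar_eq, Y.he, Y.hg, Y.heg]; ring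

theorem YD.hys {r : ℕ} {y : V ≃ₗ[F] V} {e g : V} (Y : YD Q p f m K r y e g) : y ∈ stb K (e + g) :=
  ⟨Y.hyK, by rw [map_add, Y.hye, Y.hyg]⟩

theorem YD.pow {r : ℕ} {y : V ≃ₗ[F] V} {e g : V} (Y : YD Q p f m K r y e g) : y ^ r = 1 := by
  rw [← Y.hyr]; exact pow_orderOf_eq_one y

/-- the normalizer -/
abbrev Nr {G : Type*} [Group G] (A : Subgroup G) : Subgroup G := Subgroup.normalizer (A : Set G)

/-- the properties of the radical `W` -/
structure RD (Q : QuadraticForm F V) (m : ℕ) (K : Subgroup (V ≃ₗ[F] V)) (y : V ≃ₗ[F] V) (e g : V)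
    (A : Subgroup (V ≃ₗ[F] V)) (W : Submodule F V) : Prop where
  ts : ∀ w ∈ W, Q w = 0
  dim : finrank F W = m - 1
  fixA : ∀ a ∈ A, ∀ w ∈ W, a w = w
  pe : ∀ w ∈ W, polar Q w e = 0
  pg : ∀ w ∈ W, polar Q w g = 0
  inv : ∀ k ∈ K, k ∈ Nr A → k (e + g) = e + g → ∀ w ∈ W, k w ∈ W
  yfix : ∀ w ∈ W, y w = w → w = 0
  mem : ∀ z : V, (∀ w ∈ W, polar Q z w = 0) → ∃ w ∈ W, ∃ a b : F, z = w + a • e + b • g

/-- LEMMA R -/
theorem exists_rad (h : D2 Q p f m K) (hp2 : p ≠ 2) {r : ℕ} {y : V ≃ₗ[F] V} {e g : V} (Y : YD Q p f m K r y e g)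
    (A : Subgroup (V ≃ₗ[F] V)) (hA : A ≤ stb K (e + g)) (hAp : IsPGroup p A) (hA1 : A ≠ ⊥) (hyA : y ∈ Nr A) :
    ∃ W : Submodule F V, RD Q m K y e g A W := by
  classical
  have := Fact.mk h.hp
  have hFV : Finite V := Module.finite_of_finite F
  have hm := h.hm
  have h2 := two_ne h hp2
  let X : Submodule F V :=
    { carrier := {x | ∀ a ∈ A, a x = x}
      zero_mem' := fun a _ => map_zero a
      add_mem' := fun {u w} hu hw a ha => by rw [map_add, hu a ha, hw a ha]
      smul_mem' := fun c u hu a ha => by rw [map_smul, hu a ha] }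
  have hX : ∀ x, x ∈ X ↔ ∀ a ∈ A, a x = x := fun x => Iff.rfl
  have hvX : e + g ∈ X := fun a ha => (hA ha).2
  have hnX : ∀ k ∈ Nr A, ∀ x ∈ X, k x ∈ X := by
    intro k hk x hx a ha
    have h1 : k⁻¹ * a * k ∈ A := by
      have := (Subgroup.mem_normalizer_iff.1 ((Nr A).inv_mem hk) a).1 ha
      rwa [inv_inv] at this
    have h3 : a (k x) = k ((k⁻¹ * a * k) x) := by
      have : a * k = k * (k⁻¹ * a * k) := by group
      exact congrArg (fun l : V ≃ₗ[F] V => l x) this
    rw [h3, hx _ h1]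
  have hnXp : ∀ k ∈ K, k ∈ Nr A → ∀ x ∈ perp Q X, k x ∈ perp Q X := by
    intro k hkK hk x hx u hu
    have h1 : k⁻¹ u ∈ X := hnX _ ((Nr A).inv_mem hk) u hu
    have h3 : k (k⁻¹ u) = u := by
      change (k * k⁻¹) u = u
      rw [mul_inv_cancel]; rfl
    rw [← h3, polar_map (h.iso k hkK)]
    exact hx _ h1
  set W := X ⊓ perp Q X with hWdef
  have hts : ∀ w ∈ W, Q w = 0 := by
    intro w hw
    have h1 : polar Q w w = 0 := hw.2 w hw.1
    rw [polar_self'] at h1
    exact (mul_eq_zero.1 h1).resolve_left h2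
  have hWv : ∀ w ∈ W, polar Q w (e + g) = 0 := fun w hw => hw.2 _ hvX
  have hyfix : ∀ w ∈ W, y w = w → w = 0 := by
    intro w hw hyw
    rw [Y.fix, Submodule.mem_span_pair] at hyw
    obtain ⟨α, β, rfl⟩ := hyw
    have hee : polar Q e e = 0 := by rw [polar_self', Y.he, mul_zero]
    have hgg : polar Q g g = 0 := by rw [polar_self', Y.hg, mul_zero]
    have h1 := hWv _ hw
    simp only [QuadraticMap.polar_add_right, QuadraticMap.polar_add_left, QuadraticMap.polar_smul_left, hee, hgg, Y.heg,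
      polar_comm Q g e, smul_eq_mul, mul_zero, mul_one, zero_add, add_zero] at h1
    have h3 := hts _ hw
    rw [Q_comb, Y.he, Y.hg, Y.heg] at h3
    have h4 : α = -β := by linear_combination h1
    rw [h4] at h3
    have h5 : β * β = 0 := by linear_combination -h3
    have h6 : β = 0 := mul_self_eq_zero.1 h5
    rw [h4, h6]
    simp
  have hyW : ∀ w ∈ W, y w ∈ W := fun w hw => ⟨hnX y hyA w hw.1, hnXp y Y.hyK hyA w hw.2⟩
  have hdvd : (m - 1) ∣ finrank F W := dvd_finrank h.hf h.hF Y.hr Y.hord W Y.pow hyW hyfix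
  -- W ≠ 0
  have hWne : W ≠ ⊥ := by
    intro hW0
    have hFA : Finite A := by
      have : Finite (V ≃ₗ[F] V) := Finite.of_injective (fun k : V ≃ₗ[F] V => (k : V → V)) DFunLike.coe_injective
      infer_instance
    have h1 : (perp Q X).toAddSubgroup = ⊥ := by
      refine exists_fixed (G := A) hAp _ ?_ ?_ ?_
      · refine ⟨f * finrank F (perp Q X), ?_⟩
        have := Module.natCard_eq_pow_finrank (K := F) (V := perp Q X)
        rw [h.hF, ← pow_mul] at this
        exact this
      · rintro ⟨a, ha⟩ s hs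
        exact hnXp a (hA ha).1 (Subgroup.le_normalizer ha) s hs
      · intro s hs hfx
        have h3 : s ∈ W := ⟨fun a ha => hfx ⟨a, ha⟩, hs⟩
        rw [hW0] at h3
        exact h3
    have h3 : perp Q X = ⊥ := by
      rw [eq_bot_iff]
      intro x hx
      have : x ∈ (perp Q X).toAddSubgroup := hx
      rw [h1] at this
      exact this
    have h4 := finrank_perp h.nd X
    rw [h3, finrank_bot] at h4
    have h5 : X = ⊤ := by
      apply Submodule.eq_top_of_finrank_eq
      have := Submodule.finrank_le X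
      omega
    apply hA1
    rw [eq_bot_iff]
    intro a ha
    rw [Subgroup.mem_bot]
    ext x
    have h6 : x ∈ X := by rw [h5]; trivial
    exact h6 a ha
  have hpos : 0 < finrank F W := by
    rw [Nat.pos_iff_ne_zero, Ne, Submodule.finrank_eq_zero]
    exact hWne
  have hWperp : W ≤ perp Q W := by
    intro x hx w hw
    exact hx.2 w hw.1
  have hle : finrank F W ≤ m := by
    have h1 := Submodule.finrank_mono hWperp
    have h3 := finrank_perp h.nd W
    have h4 := h.dim
    omega
  have hdim : finrank F W = m - 1 := by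
    obtain ⟨k, hk⟩ := hdvd
    have hk1 : k = 1 := by
      rcases k with _ | _ | k
      · omega
      · rfl
      · exfalso
        have : (m - 1) * 2 ≤ (m - 1) * (k + 1 + 1) := Nat.mul_le_mul_left _ (by omega)
        omega
    rw [hk, hk1, mul_one]
  -- W = (y - 1) W
  have hsurj : ∀ w ∈ W, ∃ u ∈ W, y u - u = w := by
    let T : W →ₗ[F] W := ((y : V →ₗ[F] V).restrict hyW) - LinearMap.id
    have hT : ∀ w : W, ((T w : W) : V) = y w - w := fun w => rfl
    have hinj : Function.Injective T := by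
      rw [injective_iff_map_eq_zero]
      intro w hw
      apply Subtype.ext
      apply hyfix w w.2
      have h1 := congrArg Subtype.val hw
      rw [hT] at h1
      exact sub_eq_zero.1 h1
    have hs := LinearMap.surjective_of_injective hinj
    intro w hw
    obtain ⟨u, hu⟩ := hs ⟨w, hw⟩
    exact ⟨u, u.2, by rw [← hT, hu]⟩
  have hpe : ∀ w ∈ W, polar Q w e = 0 := by
    intro w hw
    obtain ⟨u, hu, rfl⟩ := hsurj w hw
    have h1 := polar_map (h.iso y Y.hyK) u e
    rw [Y.hye] at h1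
    rw [sub_eq_add_neg, QuadraticMap.polar_add_left, QuadraticMap.polar_neg_left, h1]
    ring
  have hpg : ∀ w ∈ W, polar Q w g = 0 := by
    intro w hw
    obtain ⟨u, hu, rfl⟩ := hsurj w hw
    have h1 := polar_map (h.iso y Y.hyK) u g
    rw [Y.hyg] at h1
    rw [sub_eq_add_neg, QuadraticMap.polar_add_left, QuadraticMap.polar_neg_left, h1]
    ring
  have hee : polar Q e e = 0 := by rw [polar_self', Y.he, mul_zero]
  have hgg : polar Q g g = 0 := by rw [polar_self', Y.hg, mul_zero]
  have hge : polar Q g e = 1 := by rw [polar_comm, Y.heg]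
  refine ⟨W, hts, hdim, fun a ha w hw => hw.1 a ha, hpe, hpg, ?_, hyfix, ?_⟩
  · intro k hkK hk _ w hw
    exact ⟨hnX k hk w hw.1, hnXp k hkK hk w hw.2⟩
  · -- W^⊥ = W + ⟨e, g⟩
    set C := Submodule.span F ({e, g} : Set V) with hC
    have hCd : finrank F C = 2 := by
      have hli : LinearIndependent F ![e, g] := by
        rw [LinearIndependent.pair_iff]
        intro s t hst
        have h1 := congrArg (fun x => polar Q x g) hst
        have h3 := congrArg (fun x => polar Q x e) hst
        simp only [QuadraticMap.polar_add_left, QuadraticMap.polar_smul_left, hee, hgg, hge, Y.heg, polar_zero_left, smul_eq_mul,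
          mul_zero, mul_one, add_zero, zero_add] at h1 h3
        exact ⟨h1, h3⟩
      have h4 := finrank_span_eq_card hli
      have h5 : Set.range ![e, g] = {e, g} := by
        ext x
        rw [Set.mem_range, Fin.exists_fin_two]
        simp only [Matrix.cons_val_zero, Matrix.cons_val_one, Set.mem_insert_iff, Set.mem_singleton_iff]
        exact or_congr eq_comm eq_comm
      rw [h5, Fintype.card_fin] at h4
      exact h4
    have hdisj : W ⊓ C = ⊥ := by
      rw [eq_bot_iff]
      rintro x ⟨hxW, hxC⟩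
      exact hyfix x hxW ((Y.fix x).2 hxC)
    have hle2 : W ⊔ C ≤ perp Q W := by
      refine sup_le hWperp ?_
      rw [hC, Submodule.span_le]
      rintro x (rfl | rfl)
      · intro w hw
        rw [polar_comm]; exact hpe w hw
      · intro w hw
        rw [polar_comm]; exact hpg w hw
    have heq : W ⊔ C = perp Q W := by
      apply Submodule.eq_of_le_of_finrank_le hle2
      have h1 := Submodule.finrank_sup_add_finrank_inf_eq W C
      rw [hdisj, finrank_bot, hdim, hCd] at h1
      have h3 := finrank_perp h.nd W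
      have h4 := h.dim
      omega
    intro z hz
    have h1 : z ∈ W ⊔ C := by rw [heq]; exact hz
    obtain ⟨w, hw, c, hc, rfl⟩ := Submodule.mem_sup.1 h1
    obtain ⟨a, b, rfl⟩ := Submodule.mem_span_pair.1 hc
    exact ⟨w, hw, a, b, by rw [add_assoc]⟩

end frame

end Cfsg.Agent.H308.D2
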