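import Mathlib
import Cfsg.Agent.H386.Rg.AlphaA

/-!
# The action on a quotient, as a `ZMod p`-linear action (helper308)
-/

set_option autoImplicit false

open Module

namespace Cfsg.Agent.H308.D2

theorem exists_tau {V U D : Type*} [AddCommGroup V] [AddCommGroup U] [Group D] [DistribMulAction D V] (p : ℕ)
    [Module (ZMod p) U] (pr : V →+ U) (hpr : Function.Surjective pr) (hW : ∀ (k : D), ∀ x ∈ pr.ker, k • x ∈ pr.ker) :
    ∃ τ : D →* (U ≃ₗ[ZMod p] U), ∀ (k : D) (x : V), τ k (pr x) = pr (k • x) := by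
  obtain ⟨s, hs⟩ := hpr.hasRightInverse
  have hs' : ∀ u, pr (s u) = u := hs
  have key : ∀ (k : D) (x x' : V), pr x = pr x' → pr (k • x) = pr (k • x') := by
    intro k x x' h
    have h1 : x - x' ∈ pr.ker := by rw [AddMonoidHom.mem_ker, map_sub, h, sub_self]
    have h2 := hW k _ h1
    rw [AddMonoidHom.mem_ker, smul_sub, map_sub, sub_eq_zero] at h2
    exact h2
  let f : D → U →+ U := fun k => AddMonoidHom.mk' (fun u => pr (k • s u)) fun a b => by
    have h1 : pr (s (a + b)) = pr (s a + s b) := by rw [hs', map_add, hs', hs']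
    change pr (k • s (a + b)) = pr (k • s a) + pr (k • s b)
    rw [key k _ _ h1, smul_add, map_add]
  have hf : ∀ k x, f k (pr x) = pr (k • x) := fun k x => key k _ _ (hs' _)
  have hf1 : ∀ x, f 1 x = x := by
    intro x
    obtain ⟨x, rfl⟩ := hpr x
    rw [hf, one_smul]
  have hfm : ∀ a b x, f (a * b) x = f a (f b x) := by
    intro a b x
    obtain ⟨x, rfl⟩ := hpr x
    rw [hf, hf, hf, mul_smul]
  let g : D → (U ≃ₗ[ZMod p] U) := fun k =>
    { toFun := f k
      invFun := f k⁻¹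
      map_add' := map_add (f k)
      map_smul' := fun c x => ZMod.map_smul (f k) c x
      left_inv := fun x => by rw [← hfm, inv_mul_cancel, hf1]
      right_inv := fun x => by rw [← hfm, mul_inv_cancel, hf1] }
  have hg : ∀ k x, g k x = f k x := fun k x => rfl
  refine ⟨⟨⟨g, ?_⟩, ?_⟩, fun k x => hf k x⟩
  · apply LinearEquiv.ext
    intro x
    rw [hg, hf1]; rfl
  · intro a b
    apply LinearEquiv.ext
    intro x
    change g (a * b) x = g a (g b x)
    rw [hg, hg, hg, hfm]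

/-- abstract form of `Sit.sq_le` -/
theorem sq_le_aux {V U D Z : Type*} [AddCommGroup V] [Finite V] [AddCommGroup U] [Finite U] [Group D] [Finite D] [DistribMulAction D V]
    [AddCommGroup Z] {p n r : ℕ} [hprime : Fact p.Prime] [Module (ZMod p) U] (hn : 0 < n) (pr : V →+ U) (hpr : Function.Surjective pr)
    (hexp : ∀ x : V, p • x = 0) (hcW : Nat.card pr.ker = p ^ n) (hcU : Nat.card U = p ^ n)
    (hW : ∀ (k : D), ∀ x ∈ pr.ker, k • x ∈ pr.ker) (A : Subgroup D)
    (hA : ∀ k : D, k ∈ A ↔ ∀ x : V, k • x - x ∈ pr.ker) (hAp : IsPGroup p A) (htriv : ∀ a ∈ A, ∀ w ∈ pr.ker, a • w = w)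
    (hfixA : ∀ a ∈ A, a ≠ 1 → ∀ x : V, a • x = x → x ∈ pr.ker) (hlt : Nat.card A < p ^ n) (hr : r.Prime)
    (hord : orderOf (p : ZMod r) = n) (hr2 : r ≠ 2) {y : D} (hy : orderOf y = r) (β : V →+ V →+ Z)
    (hβD : ∀ (k : D) (u v : V), β (k • u) (k • v) = β u v) (hβn : ∀ u : V, (∀ w ∈ pr.ker, β u w = 0) → u ∈ pr.ker)
    (hβA : ∀ a ∈ A, ∀ u v : V, β u (a • v - v) = -β v (a • u - u)) : Nat.card A ^ 2 ≤ p ^ n := by
  obtain ⟨τ, hτ⟩ := exists_tau p pr hpr hW
  have hker : τ.ker = A := by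
    ext k
    rw [hA, MonoidHom.mem_ker]
    constructor
    · intro hk x
      have h2 : τ k (pr x) = pr x := by
        rw [hk, LinearEquiv.coe_one, id_eq]
      rw [hτ, ← sub_eq_zero, ← map_sub] at h2
      exact h2
    · intro hk
      apply LinearEquiv.ext
      intro x
      obtain ⟨x, rfl⟩ := hpr x
      rw [hτ, LinearEquiv.coe_one, id_eq, ← sub_eq_zero, ← map_sub]
      exact hk x
  have hS : Cfsg.Agent.H386.Rg.Sit p n pr τ :=
    { exp := hexp
      cardU := hcU
      pos := hn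
      surj := hpr
      act := fun k x => (hτ k x).symm
      cardW := by rw [hcW, hcU]
      pgrp := by rw [hker]; exact hAp
      triv := fun a ha w hw => htriv a (by rw [← hker]; exact ha) w hw
      fixA := fun a ha ha1 x hx => hfixA a (by rw [← hker]; exact ha) ha1 x hx
      lt := by rw [hker]; exact hlt }
  rw [← hker]
  refine hS.sq_le hr hord hr2 hy (-AddMonoidHom.id Z) β (fun k u v => hβD k u v) hβn ?_
  intro a ha u w
  exact hβA a (by rw [← hker]; exact ha) u w

theorem sq_le_abs {F V D : Type*} [Field F] [Finite F] [AddCommGroup V] [Module F V] [FiniteDimensional F V] [Group D]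
    [Finite D] [DistribMulAction D V] {p f l r : ℕ} [hprime : Fact p.Prime] [CharP F p] (hF : Nat.card F = p ^ f)
    (hfl : 0 < f * l) (W : Submodule F V) (hV : finrank F V = 2 * l)
    (hWd : finrank F W = l) (hW : ∀ (k : D), ∀ x ∈ W, k • x ∈ W) (A : Subgroup D)
    (hA : ∀ k : D, k ∈ A ↔ ∀ x : V, k • x - x ∈ W) (hAp : IsPGroup p A) (htriv : ∀ a ∈ A, ∀ w ∈ W, a • w = w)
    (hfixA : ∀ a ∈ A, a ≠ 1 → ∀ x : V, a • x = x → x ∈ W) (hlt : Nat.card A < p ^ (f * l)) (hr : r.Prime)
    (hord : orderOf (p : ZMod r) = f * l) (hr2 : r ≠ 2) {y : D} (hy : orderOf y = r) (β : V →ₗ[F] V →ₗ[F] F)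
    (hβD : ∀ (k : D) (u v : V), β (k • u) (k • v) = β u v) (hβn : ∀ u : V, (∀ w ∈ W, β u w = 0) → u ∈ W)
    (hβA : ∀ a ∈ A, ∀ u v : V, β u (a • v - v) = -β v (a • u - u)) : Nat.card A ^ 2 ≤ p ^ (f * l) := by
  have hFV : Finite V := Module.finite_of_finite F
  have hexpC : ∀ x : V, p • x = 0 := by
    intro x
    rw [← Nat.cast_smul_eq_nsmul F p x, CharP.cast_eq_zero F p, zero_smul]
  have hexpU : ∀ x : V ⧸ W, p • x = 0 := by
    intro x
    rw [← Nat.cast_smul_eq_nsmul F p x, CharP.cast_eq_zero F p, zero_smul]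
  have hfU : Finite (V ⧸ W) := Finite.of_surjective _ W.mkQ_surjective
  let pr : V →+ (V ⧸ W) := W.mkQ.toAddMonoidHom
  have hpr : ∀ x, pr x = W.mkQ x := fun x => rfl
  have hprk : ∀ x : V, x ∈ pr.ker ↔ x ∈ W := by
    intro x
    rw [AddMonoidHom.mem_ker, hpr, Submodule.mkQ_apply, Submodule.Quotient.mk_eq_zero]
  have hcW : Nat.card pr.ker = p ^ (f * l) := by
    have h1 : Nat.card pr.ker = Nat.card W := Nat.card_congr
      { toFun := fun x => ⟨x, (hprk _).1 x.2⟩
        invFun := fun x => ⟨x, (hprk _).2 x.2⟩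
        left_inv := fun x => rfl
        right_inv := fun x => rfl }
    rw [h1, Module.natCard_eq_pow_finrank (K := F) (V := W), hWd, hF, ← pow_mul]
  have hcU : Nat.card (V ⧸ W) = p ^ (f * l) := by
    have h1 := Submodule.finrank_quotient_add_finrank W
    rw [hWd, hV] at h1
    have h2 : finrank F (V ⧸ W) = l := by omega
    rw [Module.natCard_eq_pow_finrank (K := F) (V := V ⧸ W), h2, hF, ← pow_mul]
  let β' : V →+ V →+ F := AddMonoidHom.mk' (fun u => (β u).toAddMonoidHom) fun a b => by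
    ext w
    change β (a + b) w = β a w + β b w
    rw [map_add]; rfl
  refine @sq_le_aux V (V ⧸ W) D F _ _ _ _ _ _ _ _ p (f * l) r _ (AddCommGroup.zmodModule hexpU) hfl pr W.mkQ_surjective hexpC
    hcW hcU ?_ A ?_ hAp ?_ ?_ hlt hr hord hr2 y hy β' (fun k u v => hβD k u v) ?_ (fun a ha u v => hβA a ha u v)
  · intro k x hx
    exact (hprk _).2 (hW k x ((hprk x).1 hx))
  · intro k
    rw [hA]
    exact forall_congr' fun x => (hprk _).symm
  · intro a ha w hw
    exact htriv a ha w ((hprk w).1 hw)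
  · intro a ha ha1 x hx
    exact (hprk x).2 (hfixA a ha ha1 x hx)
  · intro u hu
    rw [hprk]
    exact hβn u fun w hw => hu w ((hprk w).2 hw)

end Cfsg.Agent.H308.D2
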